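import Groth.Agent.L17.CohSections
import Groth.Agent.L17.ToAbRpush
import Groth.Agent.L17.PushQCoh
import Groth.Agent.L18.TildeFunctor
import Groth.Agent.L21.Mod.Locality

/-!
Vanishing of higher direct images of quasi-coherent modules, read on preimages of affine opens.
-/

set_option autoImplicit false
set_option linter.style.haveILetI false
set_option backward.isDefEq.respectTransparency false
set_option backward.isDefEq.respectTransparency.types false

universe u

open CategoryTheory CategoryTheory.Limits AlgebraicGeometry TopologicalSpace Opposite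

noncomputable section

namespace Groth.Lead.FunMor

variable {X S : Scheme.{u}} (f : X ⟶ S) [QuasiCompact f] [QuasiSeparated f] [HasInjectiveResolutions X.Modules]

theorem subsingleton_HU {V : S.Opens} (hV : IsAffineOpen V) (M : X.Modules) [Coh.IsQCoh M] (q : ℕ)
    (h : IsZero ((Coh.Rpush f q).obj M)) :
    Subsingleton (Groth.L17.HU (X := X.toTopCat) (f ⁻¹ᵁ V) (Coh.toAb M) q) := by
  haveI : Subsingleton ((Coh.toAb ((Coh.Rpush f q).obj M)).obj.obj (op V)) :=
    AddCommGrpCat.subsingleton_of_isZero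
      (((sheafToPresheaf _ _).map_isZero ((Groth.L17.toAbShF S).map_isZero h)).obj _)
  exact (Groth.L17.CohSections.equiv f hV M q).toEquiv.subsingleton

theorem isZero_Rpush_of_cover (M : X.Modules) [Coh.IsQCoh M] (q : ℕ) {ι : Type*} (V : ι → S.Opens)
    (hV : ∀ i, IsAffineOpen (V i)) (hcov : ∀ y : S, ∃ i, y ∈ V i)
    (h : ∀ i, Subsingleton (Groth.L17.HU (X := X.toTopCat) (f ⁻¹ᵁ V i) (Coh.toAb M) q)) :
    IsZero ((Coh.Rpush f q).obj M) := by
  haveI := Groth.L17.PushQCoh.isQCoh_Rpush f M q
  refine Groth.L21.Mod.isZero_of_restrict (fun i => (hV i).fromSpec) (fun z => ?_) _ fun i => ?_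
  · obtain ⟨i, hi⟩ := hcov z
    obtain ⟨w, hw⟩ : z ∈ Set.range (hV i).fromSpec := (hV i).range_fromSpec.ge hi
    exact ⟨i, w, hw⟩
  · haveI : Coh.IsQCoh (((Coh.Rpush f q).obj M).restrict (hV i).fromSpec) :=
      Scheme.Modules.isQuasicoherent_restrictFunctor _ _
    refine (((tilde.functor _).map_isZero ?_).of_iso (Groth.L18.TildeF.counitIso _).symm)
    refine @ModuleCat.isZero_of_subsingleton _ _ _ ?_
    haveI : Subsingleton (CategoryTheory.Abelian.Ext (Groth.L17.CohSections.fsU (f ⁻¹ᵁ V i)) (Coh.toAb M) q) := h i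
    haveI : Subsingleton ((Coh.toAb ((Coh.Rpush f q).obj M)).obj.obj (op (V i))) :=
      (Groth.L17.CohSections.equiv f (hV i) M q).toEquiv.symm.subsingleton
    show Subsingleton ((Coh.toAb ((Coh.Rpush f q).obj M)).obj.obj (op ((hV i).fromSpec ''ᵁ ⊤)))
    rw [Scheme.Hom.image_top_eq_opensRange, IsAffineOpen.opensRange_fromSpec]
    infer_instance

end Groth.Lead.FunMor
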