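import Groth.Agent.Lead.FunMor.Base
import Groth.Agent.L17.OpenTransfer
import Groth.Agent.L17.AffinePush
import Groth.Agent.Lead.FunMor.Vanish
import Groth.Agent.L29.DCoh.PullTensor
import Groth.Agent.L10.TopCoh

/-!
Acyclicity of a kernel persists after adding a factor.
-/

set_option autoImplicit false
set_option linter.style.haveILetI false
set_option backward.defeqAttrib.useBackward true
set_option backward.isDefEq.respectTransparency false
set_option backward.isDefEq.respectTransparency.types false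

universe u

open CategoryTheory CategoryTheory.Limits AlgebraicGeometry TopologicalSpace Opposite

noncomputable section

namespace Groth.Lead.FunMor

open Groth.L10 Groth.L10.SiteCoh

variable {X Y P : Scheme.{u}}

theorem subsingleton_HU_of_iso {Z : Scheme.{u}} {F G : Z.Modules} (e : F ≅ G) (W : Z.Opens) (n : ℕ)
    (h : Subsingleton (Groth.L17.HU (X := Z.toTopCat) W (Coh.toAb F) n)) :
    Subsingleton (Groth.L17.HU (X := Z.toTopCat) W (Coh.toAb G) n) := by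
  let i : Coh.toAb F ≅ Coh.toAb G := (Groth.L17.toAbShF Z).mapIso e
  refine ⟨fun a b => ?_⟩
  have key : ∀ c : Groth.L17.HU (X := Z.toTopCat) W (Coh.toAb G) n,
      c = (c.comp (Abelian.Ext.mk₀ i.inv) (add_zero n)).comp (Abelian.Ext.mk₀ i.hom) (add_zero n) := fun c => by
    rw [Abelian.Ext.comp_assoc_of_third_deg_zero, Abelian.Ext.mk₀_comp_mk₀, Iso.inv_hom_id,
      Abelian.Ext.comp_mk₀_id]
  rw [key a, key b, h.elim (a.comp (Abelian.Ext.mk₀ i.inv) (add_zero n)) (b.comp (Abelian.Ext.mk₀ i.inv) (add_zero n))]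

/-- acyclicity of the kernel persists after adding a factor -/
theorem isZero_Rpush_tensor {T A Q W : Scheme.{u}} (a : A ⟶ X) (t : A ⟶ T) (p : P ⟶ X) (q : P ⟶ Y)
    [QuasiCompact q] [QuasiSeparated q] (r : Q ⟶ A) (s : Q ⟶ P) (hQ : IsPullback r s a p)
    (π : Q ⟶ W) [QuasiCompact π] [QuasiSeparated π] [HasInjectiveResolutions Q.Modules]
    [HasInjectiveResolutions P.Modules]
    (c₁ : W ⟶ T) (c₂ : W ⟶ Y) (h₁ : π ≫ c₁ = r ≫ t) (h₂ : π ≫ c₂ = s ≫ q)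
    (hT : ∀ U : T.Opens, IsAffineOpen U → IsAffineHom ((t ⁻¹ᵁ U).ι ≫ a))
    (hW : ∀ U : T.Opens, IsAffineOpen U → IsAffineHom ((c₁ ⁻¹ᵁ U).ι ≫ c₂))
    (F : A.Modules) (hF : Coh.IsQCoh F) (K : P.Modules) (hK : Coh.IsQCoh K) (n : ℕ)
    (hKa : ∀ M : X.Modules, Coh.IsQCoh M →
      IsZero ((Coh.Rpush q n).obj (CohB1.tensorMod ((Scheme.Modules.pullback p).obj M) K))) :
    IsZero ((Coh.Rpush π n).obj
      (CohB1.tensorMod ((Scheme.Modules.pullback r).obj F) ((Scheme.Modules.pullback s).obj K))) := by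
  haveI := hK
  haveI := hF
  haveI := Groth.L16.AffineBC.isQCoh_pullback r F
  haveI := Groth.L16.AffineBC.isQCoh_pullback s K
  haveI := Groth.L00.Tensor.isQCoh_tensorMod ((Scheme.Modules.pullback r).obj F) ((Scheme.Modules.pullback s).obj K)
  let G := CohB1.tensorMod ((Scheme.Modules.pullback r).obj F) ((Scheme.Modules.pullback s).obj K)
  refine isZero_Rpush_of_cover π G n
    (ι := T.affineOpens × Y.affineOpens) (fun i => c₁ ⁻¹ᵁ i.1.1 ⊓ c₂ ⁻¹ᵁ i.2.1) (fun i => ?_) (fun w => ?_)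
    fun i => ?_
  · haveI := hW i.1.1 i.1.2
    have h := (i.2.2.preimage ((c₁ ⁻¹ᵁ i.1.1).ι ≫ c₂)).image_of_isOpenImmersion (c₁ ⁻¹ᵁ i.1.1).ι
    rwa [Scheme.Hom.comp_preimage, Scheme.Hom.image_preimage_eq_opensRange_inf, Scheme.Opens.opensRange_ι] at h
  · obtain ⟨_, ⟨U, hU, rfl⟩, hwU, -⟩ :=
      T.isBasis_affineOpens.exists_subset_of_mem_open (Set.mem_univ (c₁ w)) isOpen_univ
    obtain ⟨_, ⟨V, hV, rfl⟩, hwV, -⟩ :=
      Y.isBasis_affineOpens.exists_subset_of_mem_open (Set.mem_univ (c₂ w)) isOpen_univ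
    exact ⟨(⟨U, hU⟩, ⟨V, hV⟩), hwU, hwV⟩
  · obtain ⟨⟨U, hU⟩, V, hV⟩ := i
    let AU := t ⁻¹ᵁ U
    haveI : IsAffineHom (AU.ι ≫ a) := hT U hU
    let j : (r ⁻¹ᵁ AU).toScheme ⟶ Q := (r ⁻¹ᵁ AU).ι
    let g : (r ⁻¹ᵁ AU).toScheme ⟶ P := j ≫ s
    let p' : (r ⁻¹ᵁ AU).toScheme ⟶ AU.toScheme := r ∣_ AU
    have hc : IsPullback p' g (AU.ι ≫ a) p := (isPullback_morphismRestrict r AU).paste_vert hQ
    haveI : IsAffineHom g := MorphismProperty.of_isPullback hc ‹IsAffineHom (AU.ι ≫ a)›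
    let F' := (Scheme.Modules.pullback AU.ι).obj F
    haveI : Coh.IsQCoh F' := Groth.L16.AffineBC.isQCoh_pullback AU.ι F
    haveI := Groth.L16.AffineBC.isQCoh_pullback p' F'
    haveI := Groth.L16.AffineBC.isQCoh_pullback g K
    haveI := Groth.L16.QcqsPush.isQCoh_push F' (AU.ι ≫ a)
    -- the restriction of the twisted module
    let N := CohB1.tensorMod ((Scheme.Modules.pullback g).obj K) ((Scheme.Modules.pullback p').obj F')
    haveI : Coh.IsQCoh N := Groth.L00.Tensor.isQCoh_tensorMod _ _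
    have w : j ≫ r = p' ≫ AU.ι := (morphismRestrict_ι r AU).symm
    let eN : G.restrict j ≅ N := (Scheme.Modules.restrictFunctorIsoPullback j).app G ≪≫
      (Groth.L29.DC.PullTensor.pullTensor j _ _).symm ≪≫
      Groth.L00.Tensor.tensorIso
        ((Scheme.Modules.pullbackComp j r).app F ≪≫ (Scheme.Modules.pullbackCongr w).app F ≪≫
          ((Scheme.Modules.pullbackComp p' AU.ι).app F).symm)
        ((Scheme.Modules.pullbackComp j s).app K) ≪≫
      Groth.L00.Tensor.tensorComm _ _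
    -- the direct image to `P`
    let M := (Scheme.Modules.pushforward (AU.ι ≫ a)).obj F'
    haveI := Groth.L17.Kun.isIso_θc (AU.ι ≫ a) p p' g hc K F'
    let eP : CohB1.tensorMod ((Scheme.Modules.pullback p).obj M) K ≅ (Scheme.Modules.pushforward g).obj N :=
      Groth.L00.Tensor.tensorComm _ _ ≪≫ asIso (Groth.L17.FlatPair.θc (AU.ι ≫ a) p p' g hc.w K F')
    haveI : Coh.IsQCoh ((Scheme.Modules.pushforward g).obj N) := Groth.L16.QcqsPush.isQCoh_push N g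
    have h0 : IsZero ((Coh.Rpush q n).obj ((Scheme.Modules.pushforward g).obj N)) :=
      (hKa M inferInstance).of_iso ((Coh.Rpush q n).mapIso eP.symm)
    have h3 : Subsingleton (Groth.L17.HU (X := P.toTopCat) (q ⁻¹ᵁ V)
        (Coh.toAb ((Scheme.Modules.pushforward g).obj N)) n) :=
      subsingleton_HU q hV _ n h0
    obtain ⟨ec⟩ := nonempty_push_compare (Opens.grothendieckTopology P.toTopCat) (Opens.map g.base) (q ⁻¹ᵁ V)
      (fun I m _ => TopCoh.subsingleton_ext_of_flasque _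
        (@TopCoh.isFlasque_of_injective _ _ (TopCoh.push_injective g.base I)) (q ⁻¹ᵁ V) m)
      (Coh.toAb N) (Groth.L17.locAcyclic_of_isAffineHom g N) n
    have h4 : Subsingleton (Groth.L17.HU (X := (r ⁻¹ᵁ AU).toScheme.toTopCat) (g ⁻¹ᵁ (q ⁻¹ᵁ V)) (Coh.toAb N) n) :=
      @Equiv.subsingleton _ _ ec.toEquiv h3
    obtain ⟨ej⟩ := Groth.L17.nonempty_hu_image j (g ⁻¹ᵁ (q ⁻¹ᵁ V)) (Coh.toAb G) n
    have heq : j ''ᵁ (g ⁻¹ᵁ (q ⁻¹ᵁ V)) = π ⁻¹ᵁ (c₁ ⁻¹ᵁ U ⊓ c₂ ⁻¹ᵁ V) := by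
      show j ''ᵁ ((j ≫ s) ⁻¹ᵁ (q ⁻¹ᵁ V)) = _
      rw [Scheme.Hom.comp_preimage, Scheme.Hom.image_preimage_eq_opensRange_inf]
      refine (congrArg (· ⊓ _) (Scheme.Opens.opensRange_ι _)).trans ?_
      show r ⁻¹ᵁ (t ⁻¹ᵁ U) ⊓ s ⁻¹ᵁ (q ⁻¹ᵁ V) = π ⁻¹ᵁ (c₁ ⁻¹ᵁ U) ⊓ π ⁻¹ᵁ (c₂ ⁻¹ᵁ V)
      simp only [← Scheme.Hom.comp_preimage, h₁, h₂]
    rw [heq] at ej
    exact @Equiv.subsingleton _ _ ej.toEquiv (subsingleton_HU_of_iso eN.symm (g ⁻¹ᵁ (q ⁻¹ᵁ V)) n h4)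

end Groth.Lead.FunMor
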