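import Groth.Agent.Lead.FunMor.Basic
import Groth.Agent.L17.Kun.AffinePush
import Groth.Agent.L29.RelPC.PushPull

/-!
Kernel functors composed with affine direct images and with inverse images.
-/

set_option autoImplicit false
set_option linter.style.haveILetI false
set_option backward.defeqAttrib.useBackward true
set_option backward.isDefEq.respectTransparency false
set_option backward.isDefEq.respectTransparency.types false

universe u

open CategoryTheory CategoryTheory.Limits AlgebraicGeometry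

noncomputable section

namespace Groth.Lead.FunMor

open Groth.L17.FlatPair (E θc θc_naturality bc bc_naturality)

variable {X Y P : Scheme.{u}}

/-- tensoring on the right is the same as tensoring on the left -/
def rightIsoLeft (K : X.Modules) : DCoh.tensorRightMod K ≅ Groth.L00.Tensor.tensorLeftF K :=
  Groth.L00.DerivedApi.tensorRightModIso K

/-- affine base change with coefficients, naturally -/
theorem nonempty_push_twist {X' P' : Scheme.{u}} (f : X' ⟶ X) [IsAffineHom f] (p : P ⟶ X) (g : P' ⟶ P)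
    (p' : P' ⟶ X') (hc : IsPullback p' g f p) (K : P.Modules) (hK : Coh.IsQCoh K) :
    Nonempty (ObjectProperty.ι (QCohCat.isQCoh X') ⋙ Coh.push f ⋙ (Scheme.Modules.pullback p ⋙ DCoh.tensorRightMod K) ≅
      ObjectProperty.ι (QCohCat.isQCoh X') ⋙ (Scheme.Modules.pullback p' ⋙
        DCoh.tensorRightMod ((Scheme.Modules.pullback g).obj K)) ⋙ Coh.push g) := by
  haveI := hK
  have h : ∀ M : QCohCat.QCoh X', IsIso (θc f p p' g hc.w K M.obj) := fun M =>
    haveI : Coh.IsQCoh M.obj := M.property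
    Groth.L17.Kun.isIso_θc f p p' g hc K M.obj
  let β : ObjectProperty.ι (QCohCat.isQCoh X') ⋙ Coh.push f ⋙ E p K ≅
      ObjectProperty.ι (QCohCat.isQCoh X') ⋙ E p' ((Scheme.Modules.pullback g).obj K) ⋙ Coh.push g :=
    NatIso.ofComponents (fun M => @asIso _ _ _ _ (θc f p p' g hc.w K M.obj) (h M))
      fun {M N} φ => θc_naturality f p p' g hc.w K φ.hom
  exact ⟨Functor.isoWhiskerLeft _ (Functor.isoWhiskerLeft _ (Functor.isoWhiskerLeft _ (rightIsoLeft K))) ≪≫ β ≪≫
    Functor.isoWhiskerLeft _ (Functor.isoWhiskerRight (Functor.isoWhiskerLeft _ (rightIsoLeft _).symm) _)⟩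

/-- kernel functors precomposed with affine direct images -/
theorem nonempty_comp_push {X' P' : Scheme.{u}} (f : X' ⟶ X) [IsAffineHom f] (p : P ⟶ X) (g : P' ⟶ P)
    (p' : P' ⟶ X') (hc : IsPullback p' g f p) (q : P ⟶ Y) (q' : P' ⟶ Y) (hq : g ≫ q = q')
    (K : P.Modules) (hK : Coh.IsQCoh K) :
    Nonempty (ObjectProperty.ι (QCohCat.isQCoh X') ⋙ Coh.push f ⋙
        (Scheme.Modules.pullback p ⋙ DCoh.tensorRightMod K ⋙ Coh.push q) ≅
      ObjectProperty.ι (QCohCat.isQCoh X') ⋙ (Scheme.Modules.pullback p' ⋙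
        DCoh.tensorRightMod ((Scheme.Modules.pullback g).obj K) ⋙ Coh.push q')) := by
  obtain ⟨a⟩ := nonempty_push_twist f p g p' hc K hK
  let c : Coh.push g ⋙ Coh.push q ≅ Coh.push q' :=
    Scheme.Modules.pushforwardComp g q ≪≫ Scheme.Modules.pushforwardCongr hq
  exact ⟨(Functor.isoWhiskerRight a (Coh.push q) :) ≪≫
    (Functor.isoWhiskerLeft (ObjectProperty.ι (QCohCat.isQCoh X') ⋙ Scheme.Modules.pullback p' ⋙
        DCoh.tensorRightMod ((Scheme.Modules.pullback g).obj K)) c :)⟩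

/-- kernel functors followed by inverse images -/
theorem nonempty_comp_pull {Y' P' : Scheme.{u}} (g : Y' ⟶ Y) (h : P' ⟶ P) (q : P ⟶ Y) [IsAffineHom q]
    (q' : P' ⟶ Y') (hc : IsPullback h q' q g) (p : P ⟶ X) (p' : P' ⟶ X) (hp : h ≫ p = p')
    (K : P.Modules) (hK : Coh.IsQCoh K) :
    Nonempty ((ObjectProperty.ι (QCohCat.isQCoh X) ⋙ Scheme.Modules.pullback p ⋙ DCoh.tensorRightMod K ⋙ Coh.push q) ⋙
        Scheme.Modules.pullback g ≅
      ObjectProperty.ι (QCohCat.isQCoh X) ⋙ (Scheme.Modules.pullback p' ⋙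
        DCoh.tensorRightMod ((Scheme.Modules.pullback h).obj K) ⋙ Coh.push q')) := by
  have hb : ∀ N : QCohCat.QCoh P, IsIso (bc q g h q' hc.w N.obj) := fun N =>
    haveI : Coh.IsQCoh N.obj := N.property
    Groth.L17.DegZero.isIso_of_isAffineHom q g h q' N.obj hc
  let γ : ObjectProperty.ι (QCohCat.isQCoh P) ⋙ Coh.push q ⋙ Scheme.Modules.pullback g ≅
      ObjectProperty.ι (QCohCat.isQCoh P) ⋙ Scheme.Modules.pullback h ⋙ Coh.push q' :=
    NatIso.ofComponents (fun N => @asIso _ _ _ _ (bc q g h q' hc.w N.obj) (hb N))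
      fun {M N} φ => bc_naturality q g h q' hc.w φ.hom
  let eP : pre p K hK ⋙ ObjectProperty.ι (QCohCat.isQCoh P) ≅
      ObjectProperty.ι (QCohCat.isQCoh X) ⋙ Scheme.Modules.pullback p ⋙ DCoh.tensorRightMod K :=
    ObjectProperty.liftCompιIso _ _ _
  let tR : ∀ {Z : Scheme.{u}} (L : Z.Modules), DCoh.tensorRightMod L ≅ Groth.L00.Tensor.tensorRightF L :=
    fun L => rightIsoLeft L ≪≫ (Groth.L00.Tensor.tensorFlipIso L).symm
  let t : DCoh.tensorRightMod K ⋙ Scheme.Modules.pullback h ≅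
      Scheme.Modules.pullback h ⋙ DCoh.tensorRightMod ((Scheme.Modules.pullback h).obj K) :=
    Functor.isoWhiskerRight (tR K) _ ≪≫ Groth.L29.RelPC.pullTensorRight h K ≪≫ Functor.isoWhiskerLeft _ (tR _).symm
  let c : Scheme.Modules.pullback p ⋙ Scheme.Modules.pullback h ≅ Scheme.Modules.pullback p' :=
    Scheme.Modules.pullbackComp h p ≪≫ Scheme.Modules.pullbackCongr hp
  exact ⟨(Functor.isoWhiskerRight eP.symm (Coh.push q ⋙ Scheme.Modules.pullback g) :) ≪≫
    (Functor.isoWhiskerLeft (pre p K hK) γ :) ≪≫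
    (Functor.isoWhiskerRight eP (Scheme.Modules.pullback h ⋙ Coh.push q') :) ≪≫
    (Functor.isoWhiskerLeft (ObjectProperty.ι (QCohCat.isQCoh X) ⋙ Scheme.Modules.pullback p)
      (Functor.isoWhiskerRight t (Coh.push q')) :) ≪≫
    (Functor.isoWhiskerLeft (ObjectProperty.ι (QCohCat.isQCoh X))
      (Functor.isoWhiskerRight c (DCoh.tensorRightMod ((Scheme.Modules.pullback h).obj K) ⋙ Coh.push q')) :)⟩

end Groth.Lead.FunMor
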