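import Groth.Agent.L29.DCoh.RpushColim
import Groth.Agent.L29.DCoh.GenPush
import Groth.Agent.L10.AcycColim.Main
import Groth.Agent.L17.QCohGab.Groth
import Groth.Agent.L16.AffineBC.Pullback
import Groth.Agent.L00.KFlatBasic
import Groth.Agent.L00.DerivedApi
import Groth.Agent.L00.TensorQCoh
import Mathlib.Algebra.Homology.ShortComplex.ExactFunctor
import Groth.Prelude.Def_DDual2

/-!
Exactness and sums for the functors attached to kernels on quasi-coherent modules.
-/

set_option autoImplicit false
set_option linter.style.haveILetI false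
set_option backward.defeqAttrib.useBackward true
set_option backward.isDefEq.respectTransparency false
set_option backward.isDefEq.respectTransparency.types false

universe u

open CategoryTheory CategoryTheory.Limits AlgebraicGeometry

noncomputable section

namespace Groth.Lead.FunMor

variable {X Y P : Scheme.{u}}

theorem preservesColimits_tensorRightMod (M : X.Modules) :
    PreservesColimitsOfSize.{u, u} (DCoh.tensorRightMod M) :=
  preservesColimits_of_natIso (Groth.L00.DerivedApi.tensorRightModIso M).symm

theorem isQCoh_tensorRightMod (M : X.Modules) (N : X.Modules) (hM : Coh.IsQCoh M) (hN : Coh.IsQCoh N) :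
    Coh.IsQCoh ((DCoh.tensorRightMod M).obj N) :=
  haveI := hM
  haveI := hN
  Groth.L00.Tensor.isQCoh_tensorMod N M

/-- pullback followed by tensoring with the kernel -/
def pre (p : P ⟶ X) (K : P.Modules) (hK : Coh.IsQCoh K) : QCohCat.QCoh X ⥤ QCohCat.QCoh P :=
  ObjectProperty.lift (QCohCat.isQCoh P)
    (ObjectProperty.ι (QCohCat.isQCoh X) ⋙ Scheme.Modules.pullback p ⋙ DCoh.tensorRightMod K) fun M =>
      isQCoh_tensorRightMod K _ hK (haveI : Coh.IsQCoh M.obj := M.property; Groth.L16.AffineBC.isQCoh_pullback p M.obj)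

theorem preservesColimits_pre (p : P ⟶ X) (K : P.Modules) (hK : Coh.IsQCoh K) :
    PreservesColimitsOfSize.{u, u} (pre p K hK) := by
  haveI := preservesColimits_tensorRightMod K
  haveI : PreservesColimitsOfSize.{u, u} (Scheme.Modules.pullback p) :=
    (Scheme.Modules.pullbackPushforwardAdjunction p).leftAdjoint_preservesColimits
  haveI : PreservesColimitsOfSize.{u, u} (pre p K hK ⋙ (QCohCat.isQCoh P).ι) :=
    preservesColimits_of_natIso (ObjectProperty.liftCompιIso _ _ _).symm
  exact preservesColimits_of_reflects_of_preserves (pre p K hK) (QCohCat.isQCoh P).ι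

/-- the direct image along an affine morphism on quasi-coherent modules -/
theorem preservesFiniteColimits_pushQ (q : P ⟶ Y) [IsAffineHom q] :
    PreservesFiniteColimits ((QCohCat.isQCoh P).ι ⋙ Coh.push q) := by
  haveI : (Coh.push q).Additive := Groth.L17.PushQCoh.additive_push q
  haveI : PreservesFiniteLimits (Coh.push q) :=
    inferInstanceAs (PreservesFiniteLimits (Scheme.Modules.pushforward q))
  haveI : ((QCohCat.isQCoh P).ι ⋙ Coh.push q).Additive := inferInstance
  refine ((Functor.preservesFiniteColimits_tfae _).out 0 3).1 fun S hS => ?_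
  haveI : PreservesFiniteColimits (QCohCat.isQCoh P).ι :=
    preservesFiniteColimits_of_preservesFiniteColimitsOfSize _ fun _ _ _ => inferInstance
  have h := hS.map_of_exact (QCohCat.isQCoh P).ι
  haveI : Epi (((QCohCat.isQCoh P).ι).map S.g) := h.epi_g
  haveI : Coh.IsQCoh ((QCohCat.isQCoh P).ι.obj S.X₂) := S.X₂.property
  haveI : Coh.IsQCoh ((QCohCat.isQCoh P).ι.obj S.X₃) := S.X₃.property
  exact ⟨((Functor.preservesFiniteLimits_iff_forall_exact_map_and_mono (Coh.push q)).1 inferInstance _ h).1,
    Groth.L29.DC.GenPush.epi_push_map q (((QCohCat.isQCoh P).ι).map S.g)⟩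

theorem preservesCoproducts_pushQ (q : P ⟶ Y) [QuasiCompact q] [QuasiSeparated q] (J : Type u) :
    PreservesColimitsOfShape (Discrete J) ((QCohCat.isQCoh P).ι ⋙ Coh.push q) := by
  haveI := Groth.L00.Tensor.grothendieckAbelian_modules P
  haveI := Groth.L29.DC.RpushColim.preservesColimitsOfShape_push q (Finset (Discrete J))
  haveI : (Scheme.Modules.pushforward q).Additive := Groth.L17.PushQCoh.additive_push q
  haveI : PreservesColimitsOfShape (Discrete J) (Coh.push q) :=
    Groth.L10.AcycColim.preservesColimitsOfShape_discrete (Scheme.Modules.pushforward q) J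
  exact comp_preservesColimitsOfShape _ _

/-- the functor attached to a kernel whose second projection is affine -/
theorem rightExact_of_isAffineHom (p : P ⟶ X) (q : P ⟶ Y) [IsAffineHom q] (K : P.Modules) (hK : Coh.IsQCoh K) :
    PreservesFiniteColimits (ObjectProperty.ι (QCohCat.isQCoh X) ⋙ Scheme.Modules.pullback p ⋙
        DCoh.tensorRightMod K ⋙ Coh.push q) ∧
      ∀ J : Type u, PreservesColimitsOfShape (Discrete J) (ObjectProperty.ι (QCohCat.isQCoh X) ⋙
        Scheme.Modules.pullback p ⋙ DCoh.tensorRightMod K ⋙ Coh.push q) := by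
  haveI := preservesColimits_pre p K hK
  haveI : PreservesFiniteColimits (pre p K hK) :=
    preservesFiniteColimits_of_preservesFiniteColimitsOfSize _ fun _ _ _ => inferInstance
  haveI := preservesFiniteColimits_pushQ q
  let e : pre p K hK ⋙ ((QCohCat.isQCoh P).ι ⋙ Coh.push q) ≅ ObjectProperty.ι (QCohCat.isQCoh X) ⋙
      Scheme.Modules.pullback p ⋙ DCoh.tensorRightMod K ⋙ Coh.push q :=
    (Functor.associator _ _ _).symm ≪≫ Functor.isoWhiskerRight (ObjectProperty.liftCompιIso _ _ _) _
  refine ⟨?_, fun J => ?_⟩
  · haveI := comp_preservesFiniteColimits (pre p K hK) ((QCohCat.isQCoh P).ι ⋙ Coh.push q)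
    exact preservesFiniteColimits_of_natIso e
  · haveI := preservesCoproducts_pushQ q J
    haveI := comp_preservesColimitsOfShape (J := Discrete J) (pre p K hK) ((QCohCat.isQCoh P).ι ⋙ Coh.push q)
    exact preservesColimitsOfShape_of_natIso e

end Groth.Lead.FunMor
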