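import Groth.Agent.Lead.FunMor.Basic
import Groth.Agent.L17.FM.FlatTensor
import Groth.Agent.L18.AffineApps
import Groth.Agent.L17.ToAbRpush
import Groth.Prelude.Def_CohB1

/-!
Exactness of the functor attached to a flat acyclic kernel.
-/

set_option autoImplicit false
set_option linter.style.haveILetI false
set_option backward.defeqAttrib.useBackward true
set_option backward.isDefEq.respectTransparency false
set_option backward.isDefEq.respectTransparency.types false

universe u

open CategoryTheory CategoryTheory.Limits AlgebraicGeometry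

noncomputable section

namespace Groth.Lead.FunMor

variable {X Y P : Scheme.{u}}

/-- the functor attached to a flat acyclic kernel is exact and commutes with sums -/
theorem exact_of_flat_acyclic (p : P ⟶ X) (q : P ⟶ Y) [QuasiCompact q] [QuasiSeparated q]
    [HasInjectiveResolutions P.Modules] (K : P.Modules) (hK : Coh.IsQCoh K) (hKf : FlatMod.IsFlatOver p K)
    (hKa : ∀ (M : X.Modules), Coh.IsQCoh M →
      IsZero ((Coh.Rpush q 1).obj ((DCoh.tensorRightMod K).obj ((Scheme.Modules.pullback p).obj M)))) :
    PreservesFiniteLimits (ObjectProperty.ι (QCohCat.isQCoh X) ⋙ Scheme.Modules.pullback p ⋙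
        DCoh.tensorRightMod K ⋙ Coh.push q) ∧
      PreservesFiniteColimits (ObjectProperty.ι (QCohCat.isQCoh X) ⋙ Scheme.Modules.pullback p ⋙
        DCoh.tensorRightMod K ⋙ Coh.push q) ∧
      ∀ J : Type u, PreservesColimitsOfShape (Discrete J) (ObjectProperty.ι (QCohCat.isQCoh X) ⋙
        Scheme.Modules.pullback p ⋙ DCoh.tensorRightMod K ⋙ Coh.push q) := by
  haveI := Groth.L17.FlatTensor.preservesFiniteLimits p K hKf
  let eT : Groth.L17.FlatTensor.G p K ≅ Scheme.Modules.pullback p ⋙ DCoh.tensorRightMod K :=
    Functor.isoWhiskerLeft _ (Groth.L00.DerivedApi.tensorRightModIso K).symm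
  haveI hTl : PreservesFiniteLimits (Scheme.Modules.pullback p ⋙ DCoh.tensorRightMod K) :=
    preservesFiniteLimits_of_natIso eT
  haveI hTr : PreservesFiniteColimits (Scheme.Modules.pullback p ⋙ DCoh.tensorRightMod K) :=
    preservesFiniteColimits_of_natIso eT
  haveI : PreservesFiniteColimits (QCohCat.isQCoh X).ι :=
    preservesFiniteColimits_of_preservesFiniteColimitsOfSize _ fun _ _ _ => inferInstance
  let Φ : QCohCat.QCoh X ⥤ P.Modules :=
    ObjectProperty.ι (QCohCat.isQCoh X) ⋙ (Scheme.Modules.pullback p ⋙ DCoh.tensorRightMod K)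
  haveI : PreservesFiniteLimits Φ := comp_preservesFiniteLimits _ _
  haveI : PreservesFiniteColimits Φ := comp_preservesFiniteColimits _ _
  haveI : (Coh.push q).Additive := Groth.L17.PushQCoh.additive_push q
  haveI : PreservesFiniteLimits (Coh.push q) :=
    inferInstanceAs (PreservesFiniteLimits (Scheme.Modules.pushforward q))
  haveI hF : PreservesFiniteLimits (Φ ⋙ Coh.push q) := comp_preservesFiniteLimits _ _
  haveI : (Φ ⋙ Coh.push q).Additive := Functor.additive_of_preserves_binary_products _
  haveI : Φ.Additive := Functor.additive_of_preserves_binary_products _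
  have hc : PreservesFiniteColimits (Φ ⋙ Coh.push q) := by
    refine ((Functor.preservesFiniteColimits_tfae _).out 0 3).1 fun S hS => ?_
    have hT := hS.map_of_exact Φ
    haveI : Epi (Φ.map S.g) := hT.epi_g
    refine ⟨((Functor.preservesFiniteLimits_iff_forall_exact_map_and_mono (Φ ⋙ Coh.push q)).1 hF _ hS).1, ?_⟩
    refine Groth.L18.AffineCrit.epi_push_of_R1 q (Φ.map S.g) ?_
    obtain ⟨e⟩ := Groth.L17.nonempty_toAb_Rpush_iso q (kernel (Φ.map S.g)) 1
    refine IsZero.of_iso ?_ e.symm
    have h0 : IsZero ((Coh.Rpush q 1).obj (kernel (Φ.map S.g))) :=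
      (hKa S.X₁.obj S.X₁.property).of_iso
        ((Coh.Rpush q 1).mapIso ((kernelIsKernel (Φ.map S.g)).conePointUniqueUpToIso hT.fIsKernel))
    exact (Groth.L17.toAbShF Y).map_isZero h0
  refine ⟨?_, ?_, fun J => ?_⟩
  · exact hF
  · exact hc
  · haveI := preservesColimits_pre p K hK
    haveI := preservesCoproducts_pushQ q J
    haveI := comp_preservesColimitsOfShape (J := Discrete J) (pre p K hK) ((QCohCat.isQCoh P).ι ⋙ Coh.push q)
    exact preservesColimitsOfShape_of_natIso (F := pre p K hK ⋙ ((QCohCat.isQCoh P).ι ⋙ Coh.push q))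
      ((Functor.associator _ _ _).symm ≪≫ Functor.isoWhiskerRight (ObjectProperty.liftCompιIso _ _ _) _)

end Groth.Lead.FunMor
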