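import Groth.Agent.L17.FlatPair.PairIso
import Groth.Agent.L00.TensorQCoh

/-!
Base change in degree zero with flat coefficients, as the canonical map.
-/

set_option autoImplicit false
set_option linter.style.haveILetI false
set_option backward.defeqAttrib.useBackward true
set_option backward.isDefEq.respectTransparency false
set_option backward.isDefEq.respectTransparency.types false

universe u

open CategoryTheory CategoryTheory.Limits AlgebraicGeometry

noncomputable section

namespace Groth.Lead.FunMor

open Groth.L17.FlatPair Groth.L17.CxIso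

variable {X S X' S' : Scheme.{u}}

theorem isIso_θc_flat (f : X ⟶ S) (g : S' ⟶ S) (g' : X' ⟶ X) (f' : X' ⟶ S') (hc : IsPullback g' f' f g)
    [QuasiCompact f] [QuasiSeparated f] (G : S'.Modules) (F : X.Modules) [Coh.IsQCoh G] [Coh.IsQCoh F]
    (hGf : FlatMod.IsFlatOver g G) : IsIso (θc f g g' f' hc.w G F) := by
  haveI : QuasiCompact f' := MorphismProperty.of_isPullback hc inferInstance
  haveI : QuasiSeparated f' := MorphismProperty.of_isPullback hc inferInstance
  haveI := Groth.L00.Tensor.grothendieckAbelian_modules X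
  haveI := Groth.L00.Tensor.grothendieckAbelian_modules X'
  haveI := preservesFiniteLimits_E g hGf
  haveI := additive_E g G
  let E' := E g' ((Scheme.Modules.pullback f').obj G)
  haveI : PreservesFiniteLimits E' := preservesFiniteLimits_E g' (isFlatOver_pull f g g' f' G (hG := hGf) hc)
  haveI := additive_E g' ((Scheme.Modules.pullback f').obj G)
  haveI : (Scheme.Modules.pushforward f).Additive := Groth.L17.PushQCoh.additive_push f
  haveI : (Scheme.Modules.pushforward f').Additive := Groth.L17.PushQCoh.additive_push f'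
  obtain ⟨I⟩ : Nonempty (InjectiveResolution F) := HasInjectiveResolution.out
  obtain ⟨J⟩ : Nonempty (InjectiveResolution (E'.obj F)) := HasInjectiveResolution.out
  haveI := J.injective
  haveI : E'.PreservesHomology := inferInstance
  obtain ⟨η, hη⟩ := Groth.L17.CxTools.exists_chainMap (K := (E'.mapHomologicalComplex _).obj I.cocomplex)
    (L := J.cocomplex)
    (E'.map (I.ι.f 0)) (by show E'.map _ ≫ E'.map _ = 0; rw [← E'.map_comp, I.ι_f_zero_comp_complex_d, E'.map_zero])
    (I.exact₀.map E') (fun m => (I.exact_succ m).map E') (J.ι.f 0) J.ι_f_zero_comp_complex_d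
  haveI := isIso_ψP f g g' f' hc.w G I J η hc hGf hη 0
  let u := uP f g g' f' hc.w G I J η
  haveI hh : IsIso (HomologicalComplex.homologyMap u 0) := by
    have h : IsIso (ψP f g g' f' hc.w G I J η 0) := inferInstance
    exact @IsIso.of_isIso_comp_left _ _ _ _ _ _ _ inferInstance h
  let A := ((E g G).mapHomologicalComplex _).obj (cC f I)
  let B := cD' g' f' G J
  haveI : IsIso (HomologicalComplex.cyclesMap u 0) := by
    have h : IsIso (A.homologyπ 0 ≫ HomologicalComplex.homologyMap u 0) := inferInstance
    rw [HomologicalComplex.homologyπ_naturality] at h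
    exact IsIso.of_isIso_comp_right _ (B.homologyπ 0)
  haveI : Mono (I.ι.f 0) := inferInstance
  haveI : Mono (J.ι.f 0) := inferInstance
  have ka := KernelFork.mapIsLimit _ I.exact₀.fIsKernel (Scheme.Modules.pushforward f ⋙ E g G)
  have kb := KernelFork.mapIsLimit _ J.exact₀.fIsKernel (Scheme.Modules.pushforward f')
  let ea := ka.conePointUniqueUpToIso (A.cyclesIsKernel 0 1 (ComplexShape.next_eq' _ rfl))
  let eb := kb.conePointUniqueUpToIso (B.cyclesIsKernel 0 1 (ComplexShape.next_eq' _ rfl))
  have hea : ea.hom ≫ A.iCycles 0 = (E g G).map ((Scheme.Modules.pushforward f).map (I.ι.f 0)) :=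
    IsLimit.conePointUniqueUpToIso_hom_comp _ _ WalkingParallelPair.zero
  have heb : eb.inv ≫ (Scheme.Modules.pushforward f').map (J.ι.f 0) = B.iCycles 0 :=
    IsLimit.conePointUniqueUpToIso_inv_comp _ _ WalkingParallelPair.zero
  have hm : Mono ((Scheme.Modules.pushforward f').map (J.ι.f 0)) := inferInstance
  have hn := θc_naturality f g g' f' hc.w G (I.ι.f 0)
  have e1 : (θc f g g' f' hc.w G F : (E g G).obj ((Scheme.Modules.pushforward f).obj F) ⟶ _) ≫
      (Scheme.Modules.pushforward f').map (J.ι.f 0) =
        (E g G).map ((Scheme.Modules.pushforward f).map (I.ι.f 0)) ≫ u.f 0 :=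
    ((congrArg (fun t => θc f g g' f' hc.w G F ≫ t)
      ((congrArg (Scheme.Modules.pushforward f').map hη.symm).trans (Functor.map_comp _ _ _))).trans
        (Category.assoc _ _ _).symm).trans
      ((congrArg (· ≫ (Scheme.Modules.pushforward f').map (η.f 0)) hn.symm).trans (Category.assoc _ _ _))
  have e2 : (E g G).map ((Scheme.Modules.pushforward f).map (I.ι.f 0)) ≫ u.f 0 =
      ea.hom ≫ HomologicalComplex.cyclesMap u 0 ≫ B.iCycles 0 :=
    ((congrArg (· ≫ u.f 0) hea.symm).trans (Category.assoc _ _ _)).trans
      (congrArg (ea.hom ≫ ·) (HomologicalComplex.cyclesMap_i u 0).symm)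
  have e3 : ea.hom ≫ HomologicalComplex.cyclesMap u 0 ≫ B.iCycles 0 =
      (ea.hom ≫ HomologicalComplex.cyclesMap u 0 ≫ eb.inv) ≫ (Scheme.Modules.pushforward f').map (J.ι.f 0) :=
    (congrArg (fun t => ea.hom ≫ HomologicalComplex.cyclesMap u 0 ≫ t) heb.symm).trans
      ((congrArg (ea.hom ≫ ·) (Category.assoc _ _ _).symm).trans (Category.assoc _ _ _).symm)
  have key : θc f g g' f' hc.w G F = ea.hom ≫ HomologicalComplex.cyclesMap u 0 ≫ eb.inv :=
    hm.right_cancellation _ _ ((e1.trans e2).trans e3)
  rw [key]
  infer_instance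

end Groth.Lead.FunMor
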