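import Groth.Agent.Lead.FunMor.Acyclic
import Groth.Agent.Lead.FunMor.Exact
import Groth.Agent.Lead.FunMor.ThetaFlat
import Groth.Agent.L17.FlatBase.DegZero
import Groth.Agent.L16.FlatQuot.Main
import Groth.Agent.L16.HomCorep.Main
import Groth.Agent.L19.Pinch.Sheaf
import Groth.Agent.L20.RG.FibreFreeFlat

/-!
Composition of two kernel functors is given by the convolution of the kernels.
-/

set_option autoImplicit false
set_option linter.style.haveILetI false
set_option backward.defeqAttrib.useBackward true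
set_option backward.isDefEq.respectTransparency false
set_option backward.isDefEq.respectTransparency.types false

universe u

open CategoryTheory CategoryTheory.Limits AlgebraicGeometry

noncomputable section

namespace Groth.Lead.FunMor

open Groth.L17.FlatPair (E θc θc_naturality μ_natural)
open Groth.L00.Tensor (tensorMap tensorMap_comp tensorIso tensorComm tensorRightF tensorLeftF tensorFlipIso)
open Groth.L17.ClosedPush (μ)

theorem isIso_app_of_presentation {C D : Type*} [Category C] [Category D] [HasZeroMorphisms C] [HasZeroMorphisms D]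
    {S T : C ⥤ D} [S.PreservesZeroMorphisms] [T.PreservesZeroMorphisms] [PreservesFiniteColimits S]
    [PreservesFiniteColimits T] (α : S ⟶ T) {A B M : C} (d : A ⟶ B) (p : B ⟶ M) (w : d ≫ p = 0)
    (hc : IsColimit (CokernelCofork.ofπ p w)) [IsIso (α.app A)] [IsIso (α.app B)] : IsIso (α.app M) := by
  have hS := CokernelCofork.mapIsColimit _ hc S
  have hT := CokernelCofork.mapIsColimit _ hc T
  have h0 : T.map d ≫ inv (α.app B) ≫ S.map p = 0 := by
    rw [← cancel_epi (α.app A), ← Category.assoc (α.app A), ← α.naturality d, Category.assoc,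
      IsIso.hom_inv_id_assoc, ← S.map_comp, w, S.map_zero, comp_zero]
  haveI hSe : Epi (S.map p) := epi_of_isColimit_cofork hS
  haveI hTe : Epi (T.map p) := epi_of_isColimit_cofork hT
  let β := CokernelCofork.IsColimit.desc' hT (inv (α.app B) ≫ S.map p) h0
  have hβ : T.map p ≫ β.1 = inv (α.app B) ≫ S.map p := β.2
  refine ⟨β.1, ?_, ?_⟩
  · rw [← cancel_epi (S.map p), ← Category.assoc, α.naturality, Category.assoc, hβ, IsIso.hom_inv_id_assoc,
      Category.comp_id]
  · rw [← cancel_epi (T.map p), ← Category.assoc, hβ, Category.assoc, α.naturality, IsIso.inv_hom_id_assoc,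
      Category.comp_id]

variable {W P : Scheme.{u}}

/-- the projection map with a fixed second factor -/
def projTrans (π : W ⟶ P) (N : W.Modules) :
    tensorRightF ((Scheme.Modules.pushforward π).obj N) ⟶
      Scheme.Modules.pullback π ⋙ tensorRightF N ⋙ Scheme.Modules.pushforward π where
  app G := tensorMap ((Scheme.Modules.pullbackPushforwardAdjunction π).unit.app G) (𝟙 _) ≫
    μ π ((Scheme.Modules.pullback π).obj G) N
  naturality G G' g := by
    show tensorMap g (𝟙 _) ≫ tensorMap _ (𝟙 _) ≫ _ =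
      (tensorMap _ (𝟙 _) ≫ _) ≫ (Scheme.Modules.pushforward π).map (tensorMap ((Scheme.Modules.pullback π).map g) (𝟙 N))
    rw [Category.assoc, ← μ_natural, ← Category.assoc, ← Category.assoc, ← tensorMap_comp, ← tensorMap_comp,
      CategoryTheory.Functor.map_id]
    congr 2
    exact (Scheme.Modules.pullbackPushforwardAdjunction π).unit.naturality g

theorem isIso_projTrans (π : W ⟶ P) [QuasiCompact π] [QuasiSeparated π] (N : W.Modules) [Coh.IsQCoh N]
    (G : P.Modules) [Coh.IsQCoh G] (hG : FlatMod.IsFlat G) : IsIso ((projTrans π N).app G) := by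
  have hc : IsPullback (𝟙 W) π π (𝟙 P) := IsPullback.of_horiz_isIso ⟨by simp⟩
  haveI := isIso_θc_flat π (𝟙 P) (𝟙 W) π hc G N fun x => (Groth.L20.RG.FibreFree.isFlatOverAt_id_iff G x).2 (hG x)
  haveI hb : IsIso (Groth.L17.FlatPair.bc π (𝟙 P) (𝟙 W) π hc.w N) :=
    Groth.L17.DegZero.isIso_of_flat π (𝟙 P) (𝟙 W) π N hc
  let i := (Scheme.Modules.pullbackId W).app N
  let j := asIso (Groth.L17.FlatPair.bc π (𝟙 P) (𝟙 W) π hc.w N) ≪≫ (Scheme.Modules.pushforward π).mapIso i
  have key : θc π (𝟙 P) (𝟙 W) π hc.w G N ≫ (Scheme.Modules.pushforward π).map (tensorMap (𝟙 _) i.hom) =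
      (tensorIso (Iso.refl G) j).hom ≫ (projTrans π N).app G := by
    show (tensorMap _ _ ≫ _) ≫ _ = tensorMap (𝟙 G) j.hom ≫ tensorMap _ (𝟙 _) ≫ _
    rw [Category.assoc, ← μ_natural, ← Category.assoc, ← Category.assoc, ← tensorMap_comp, ← tensorMap_comp,
      CategoryTheory.Functor.map_id, Category.id_comp, Category.comp_id]
    exact congrArg (fun t => tensorMap t _ ≫ _) (Category.comp_id _)
  haveI : IsIso (tensorMap (𝟙 ((Scheme.Modules.pullback π).obj G)) i.hom) :=
    (tensorIso (Iso.refl _) i).isIso_hom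
  haveI : IsIso ((tensorIso (Iso.refl G) j).hom ≫ (projTrans π N).app G) := key ▸ inferInstance
  exact IsIso.of_isIso_comp_left (tensorIso (Iso.refl G) j).hom _

variable {X Y Z P₁ P₂ P₃ : Scheme.{u}}

/-- composition of kernel functors -/
theorem nonempty_comp_kernel [CompactSpace X]
    (hd : ∀ U V : X.Opens, IsAffineOpen U → IsAffineOpen V → IsAffineOpen (U ⊓ V))
    (p₁ : P₁ ⟶ X) (q₁ : P₁ ⟶ Y) [QuasiCompact q₁] [QuasiSeparated q₁] (p₂ : P₂ ⟶ Y) (q₂ : P₂ ⟶ Z)
    (p₃ : P₃ ⟶ X) (q₃ : P₃ ⟶ Z) (u : W ⟶ P₁) (v : W ⟶ P₂) (hW : IsPullback u v q₁ p₂)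
    (π : W ⟶ P₃) [QuasiCompact π] [QuasiSeparated π] [HasInjectiveResolutions W.Modules]
    (h₁ : π ≫ p₃ = u ≫ p₁) (h₂ : π ≫ q₃ = v ≫ q₂)
    (K : P₁.Modules) (hK : Coh.IsQCoh K) (hKf : FlatMod.IsFlatOver p₁ K)
    (L : P₂.Modules) (hL : Coh.IsQCoh L) (hLf : FlatMod.IsFlatOver p₂ L)
    (hR : ∀ M : P₁.Modules, Coh.IsQCoh M →
      IsZero ((Coh.Rpush π 1).obj (CohB1.tensorMod ((Scheme.Modules.pullback u).obj M) ((Scheme.Modules.pullback v).obj L)))) :
    Nonempty (ObjectProperty.ι (QCohCat.isQCoh X) ⋙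
        (Scheme.Modules.pullback p₁ ⋙ DCoh.tensorRightMod K ⋙ Coh.push q₁) ⋙
        (Scheme.Modules.pullback p₂ ⋙ DCoh.tensorRightMod L ⋙ Coh.push q₂) ≅
      ObjectProperty.ι (QCohCat.isQCoh X) ⋙ (Scheme.Modules.pullback p₃ ⋙
        DCoh.tensorRightMod ((Coh.push π).obj (CohB1.tensorMod ((Scheme.Modules.pullback u).obj K)
          ((Scheme.Modules.pullback v).obj L))) ⋙ Coh.push q₃)) := by
  haveI := hK
  haveI := hL
  let K' := (Scheme.Modules.pullback u).obj K
  let L' := (Scheme.Modules.pullback v).obj L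
  haveI : Coh.IsQCoh K' := Groth.L16.AffineBC.isQCoh_pullback u K
  haveI : Coh.IsQCoh L' := Groth.L16.AffineBC.isQCoh_pullback v L
  let E₀ := CohB1.tensorMod K' L'
  haveI : Coh.IsQCoh E₀ := Groth.L00.Tensor.isQCoh_tensorMod _ _
  let ιX := ObjectProperty.ι (QCohCat.isQCoh X)
  let eP : pre p₁ K hK ⋙ ObjectProperty.ι (QCohCat.isQCoh P₁) ≅
      ιX ⋙ Scheme.Modules.pullback p₁ ⋙ DCoh.tensorRightMod K :=
    ObjectProperty.liftCompιIso _ _ _
  let tR : ∀ {V : Scheme.{u}} (N : V.Modules), DCoh.tensorRightMod N ≅ tensorRightF N :=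
    fun N => rightIsoLeft N ≪≫ (tensorFlipIso N).symm
  let t : DCoh.tensorRightMod K ⋙ E u L' ≅ Scheme.Modules.pullback u ⋙ tensorRightF E₀ :=
    (Functor.isoWhiskerRight (tR K) (E u L') :) ≪≫
      (Functor.isoWhiskerRight (Groth.L29.RelPC.pullTensorRight u K) (tensorLeftF L') :) ≪≫
      (Functor.isoWhiskerLeft (Scheme.Modules.pullback u ⋙ tensorRightF K') (tensorFlipIso L').symm :) ≪≫
      (Functor.isoWhiskerLeft (Scheme.Modules.pullback u) (Groth.L16.HomCorep.twiceIso K' L') :)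
  let c : Scheme.Modules.pullback p₁ ⋙ Scheme.Modules.pullback u ≅
      Scheme.Modules.pullback p₃ ⋙ Scheme.Modules.pullback π :=
    Scheme.Modules.pullbackComp u p₁ ≪≫ Scheme.Modules.pullbackCongr h₁.symm ≪≫ (Scheme.Modules.pullbackComp π p₃).symm
  let Φ : QCohCat.QCoh X ⥤ W.Modules := (ιX ⋙ Scheme.Modules.pullback p₁ ⋙ DCoh.tensorRightMod K) ⋙ E u L'
  let core : Φ ≅ ιX ⋙ Scheme.Modules.pullback p₃ ⋙ Scheme.Modules.pullback π ⋙ tensorRightF E₀ :=
    (Functor.isoWhiskerLeft (ιX ⋙ Scheme.Modules.pullback p₁) t :) ≪≫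
      (Functor.isoWhiskerLeft ιX (Functor.isoWhiskerRight c (tensorRightF E₀)) :)
  -- exactness
  haveI : PreservesFiniteColimits ιX :=
    preservesFiniteColimits_of_preservesFiniteColimitsOfSize _ fun _ _ _ => inferInstance
  haveI := Groth.L17.FlatTensor.preservesFiniteLimits p₁ K hKf
  let eT : Groth.L17.FlatTensor.G p₁ K ≅ Scheme.Modules.pullback p₁ ⋙ DCoh.tensorRightMod K :=
    Functor.isoWhiskerLeft _ (Groth.L00.DerivedApi.tensorRightModIso K).symm
  haveI : PreservesFiniteLimits (Scheme.Modules.pullback p₁ ⋙ DCoh.tensorRightMod K) :=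
    preservesFiniteLimits_of_natIso eT
  haveI : PreservesFiniteColimits (Scheme.Modules.pullback p₁ ⋙ DCoh.tensorRightMod K) :=
    preservesFiniteColimits_of_natIso eT
  haveI : PreservesFiniteLimits (E u L') :=
    Groth.L17.FlatPair.preservesFiniteLimits_E u (Groth.L17.FlatPair.isFlatOver_pull q₁ p₂ u v L (hG := hLf) hW)
  haveI : PreservesFiniteColimits (E u L') := Groth.L17.FlatPair.preservesColimits_E u L'
  haveI : PreservesFiniteLimits (ιX ⋙ Scheme.Modules.pullback p₁ ⋙ DCoh.tensorRightMod K) :=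
    comp_preservesFiniteLimits ιX _
  haveI : PreservesFiniteColimits (ιX ⋙ Scheme.Modules.pullback p₁ ⋙ DCoh.tensorRightMod K) :=
    comp_preservesFiniteColimits ιX _
  haveI : PreservesFiniteLimits Φ := comp_preservesFiniteLimits _ _
  haveI : PreservesFiniteColimits Φ := comp_preservesFiniteColimits _ _
  haveI : Φ.Additive := Functor.additive_of_preserves_binary_products _
  haveI : (Coh.push π).Additive := Groth.L17.PushQCoh.additive_push π
  haveI : PreservesFiniteLimits (Coh.push π) :=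
    inferInstanceAs (PreservesFiniteLimits (Scheme.Modules.pushforward π))
  haveI hF : PreservesFiniteLimits (Φ ⋙ Coh.push π) := comp_preservesFiniteLimits _ _
  haveI : (Φ ⋙ Coh.push π).Additive := inferInstance
  have hRe : PreservesFiniteColimits (Φ ⋙ Coh.push π) := by
    refine ((Functor.preservesFiniteColimits_tfae _).out 0 3).1 fun S hS => ?_
    have hT := hS.map_of_exact Φ
    haveI : Epi (Φ.map S.g) := hT.epi_g
    refine ⟨((Functor.preservesFiniteLimits_iff_forall_exact_map_and_mono (Φ ⋙ Coh.push π)).1 hF _ hS).1, ?_⟩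
    refine Groth.L18.AffineCrit.epi_push_of_R1 π (Φ.map S.g) ?_
    obtain ⟨e⟩ := Groth.L17.nonempty_toAb_Rpush_iso π (kernel (Φ.map S.g)) 1
    refine IsZero.of_iso ?_ e.symm
    have h0 : IsZero ((Coh.Rpush π 1).obj (kernel (Φ.map S.g))) :=
      (hR _ (isQCoh_tensorRightMod K _ hK
        (haveI : Coh.IsQCoh S.X₁.obj := S.X₁.property; Groth.L16.AffineBC.isQCoh_pullback p₁ S.X₁.obj))).of_iso
        ((Coh.Rpush π 1).mapIso
          ((kernelIsKernel (Φ.map S.g)).conePointUniqueUpToIso hT.fIsKernel ≪≫ tensorComm _ _))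
    exact (Groth.L17.toAbShF P₃).map_isZero h0
  let R : QCohCat.QCoh X ⥤ P₃.Modules :=
    ιX ⋙ Scheme.Modules.pullback p₃ ⋙ Scheme.Modules.pullback π ⋙ tensorRightF E₀ ⋙ Coh.push π
  let eR : Φ ⋙ Coh.push π ≅ R := (Functor.isoWhiskerRight core (Coh.push π) :)
  haveI : PreservesFiniteColimits R := @preservesFiniteColimits_of_natIso _ _ _ _ _ _ eR hRe
  haveI : R.Additive := Functor.additive_of_iso eR
  let T : QCohCat.QCoh X ⥤ P₃.Modules :=
    ιX ⋙ (Scheme.Modules.pullback p₃ ⋙ tensorRightF ((Coh.push π).obj E₀))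
  haveI : PreservesColimitsOfSize.{u, u} (Scheme.Modules.pullback p₃) :=
    (Scheme.Modules.pullbackPushforwardAdjunction p₃).leftAdjoint_preservesColimits
  haveI : PreservesColimitsOfSize.{u, u} (tensorRightF ((Coh.push π).obj E₀)) :=
    haveI := Groth.L00.Tensor.preservesColimits_tensorLeftF ((Coh.push π).obj E₀)
    preservesColimits_of_natIso (tensorFlipIso _).symm
  haveI : PreservesFiniteColimits (Scheme.Modules.pullback p₃ ⋙ tensorRightF ((Coh.push π).obj E₀)) :=
    PreservesColimitsOfSize.preservesFiniteColimits _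
  haveI : PreservesFiniteColimits T := comp_preservesFiniteColimits _ _
  haveI : PreservesBinaryBiproducts T := preservesBinaryBiproducts_of_preservesBinaryCoproducts T
  haveI : T.Additive := Functor.additive_of_preservesBinaryBiproducts _
  let α : T ⟶ R := Functor.whiskerLeft (ιX ⋙ Scheme.Modules.pullback p₃) (projTrans π E₀)
  have hflat : ∀ F : QCohCat.QCoh X, FlatMod.IsFlat F.obj → IsIso (α.app F) := fun F h => by
    haveI : Coh.IsQCoh F.obj := F.property
    have this := Groth.L16.AffineBC.isQCoh_pullback p₃ F.obj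
    exact @isIso_projTrans _ _ π _ _ E₀ _ ((Scheme.Modules.pullback p₃).obj F.obj) this
      (Groth.L19.Pinch.isFlat_pullback p₃ h)
  have hα : ∀ M : QCohCat.QCoh X, IsIso (α.app M) := fun M => by
    obtain ⟨F₀, ε, hF₀, hflat₀, hε⟩ := Groth.L16.FlatQuot.exists_flat_cover hd M.obj M.property
    let B : QCohCat.QCoh X := ⟨F₀, hF₀⟩
    let p : B ⟶ M := ObjectProperty.homMk ε
    haveI : Epi (ιX.map p) := hε
    haveI : Epi p := ιX.epi_of_epi_map ‹_›
    obtain ⟨F₁, δ, hF₁, hflat₁, hδ⟩ :=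
      Groth.L16.FlatQuot.exists_flat_cover hd (kernel p).obj (kernel p).property
    let A : QCohCat.QCoh X := ⟨F₁, hF₁⟩
    let e : A ⟶ kernel p := ObjectProperty.homMk δ
    haveI : Epi (ιX.map e) := hδ
    haveI : Epi e := ιX.epi_of_epi_map ‹_›
    haveI := hflat A hflat₁
    haveI := hflat B hflat₀
    exact isIso_app_of_presentation α (e ≫ kernel.ι p) p
      (by rw [Category.assoc, kernel.condition, comp_zero])
      (isCokernelEpiComp (Abelian.epiIsCokernelOfKernel _ (kernelIsKernel p)) e rfl)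
  haveI := hα
  haveI : IsIso α := NatIso.isIso_of_isIso_app α
  -- base change along the middle factor
  have hθ : ∀ N : QCohCat.QCoh P₁, IsIso (θc q₁ p₂ u v hW.w L N.obj) := fun N =>
    haveI : Coh.IsQCoh N.obj := N.property
    isIso_θc_flat q₁ p₂ u v hW L N.obj hLf
  let β : ObjectProperty.ι (QCohCat.isQCoh P₁) ⋙ Coh.push q₁ ⋙ E p₂ L ≅
      ObjectProperty.ι (QCohCat.isQCoh P₁) ⋙ E u L' ⋙ Coh.push v :=
    NatIso.ofComponents (fun N => @asIso _ _ _ _ (θc q₁ p₂ u v hW.w L N.obj) (hθ N))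
      fun {M N} φ => θc_naturality q₁ p₂ u v hW.w L φ.hom
  let cp : Coh.push v ⋙ Coh.push q₂ ≅ Coh.push π ⋙ Coh.push q₃ :=
    Scheme.Modules.pushforwardComp v q₂ ≪≫ Scheme.Modules.pushforwardCongr h₂.symm ≪≫
      (Scheme.Modules.pushforwardComp π q₃).symm
  exact ⟨(Functor.isoWhiskerLeft (ιX ⋙ Scheme.Modules.pullback p₁ ⋙ DCoh.tensorRightMod K ⋙ Coh.push q₁)
      (Functor.isoWhiskerRight (Functor.isoWhiskerLeft (Scheme.Modules.pullback p₂) (rightIsoLeft L)) (Coh.push q₂)) :) ≪≫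
    (Functor.isoWhiskerRight eP.symm (Coh.push q₁ ⋙ E p₂ L ⋙ Coh.push q₂) :) ≪≫
    (Functor.isoWhiskerLeft (pre p₁ K hK) (Functor.isoWhiskerRight β (Coh.push q₂)) :) ≪≫
    (Functor.isoWhiskerRight eP (E u L' ⋙ Coh.push v ⋙ Coh.push q₂) :) ≪≫
    (Functor.isoWhiskerLeft Φ cp :) ≪≫
    (Functor.isoWhiskerRight eR (Coh.push q₃) :) ≪≫
    (Functor.isoWhiskerRight (asIso α).symm (Coh.push q₃) :) ≪≫
    (Functor.isoWhiskerLeft (ιX ⋙ Scheme.Modules.pullback p₃)
      (Functor.isoWhiskerRight (tR ((Coh.push π).obj E₀)).symm (Coh.push q₃)) :)⟩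

end Groth.Lead.FunMor
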