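import Groth.Agent.Lead.FunMor.Acyclic
import Groth.Agent.Lead.FunMor.Exact
import Groth.Agent.L17.Kun.AffinePush
import Groth.Agent.L17.FlatBase.DegZero
import Groth.Agent.L17.SerreCriterion
import Groth.Agent.L29.DCoh.RelBC
import Groth.Agent.L29.DCoh.PCQCoh
import Groth.Agent.L16.Existence.Vanishing
import Groth.Agent.L18.Ample
import Groth.Agent.L29.LocFree
import Groth.Agent.L00.AlgQCoh
import Groth.Prelude.Def_ClSub2

/-!
The counit `q^* q_* K ⟶ K` of a flat acyclic kernel is an epimorphism for a separated flat source.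
-/

set_option autoImplicit false
set_option linter.style.haveILetI false
set_option backward.defeqAttrib.useBackward true
set_option backward.isDefEq.respectTransparency false
set_option backward.isDefEq.respectTransparency.types false

universe u

open CategoryTheory CategoryTheory.Limits AlgebraicGeometry TopologicalSpace Opposite

noncomputable section

namespace Groth.Lead.FunMor

open Groth.L00.Tensor (tensorIso tensorComm tensorUnitLeft tensorUnitRight)

variable {X Y S : Scheme.{u}}

theorem isQCoh_one (X : Scheme.{u}) : Coh.IsQCoh (Coh.structureModule X) :=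
  Groth.L29.DC.PCQCoh.isQCoh_of_isFinLocFree
    (Groth.L16.Existence.isFinLocFree_of_isInvertible (Groth.L18.Ample.isInvertible_structureModule X))

theorem epi_unit (j : X ⟶ Y) [IsClosedImmersion j] : Epi (ClSub.unitToPush j) :=
  Groth.L17.Serre.epi_of_locally_surjective _ fun U x hx t => by
    obtain ⟨V, hV, hxV, hVU⟩ := exists_isAffineOpen_mem_and_subset (x := x) (U := U) hx
    obtain ⟨s, hs⟩ := j.app_surjective V hV ((show Γ(X, j ⁻¹ᵁ V) from
      ((Scheme.Modules.pushforward j).obj (Coh.structureModule X)).presheaf.map (homOfLE hVU).op t))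
    exact ⟨V, hVU, hxV, s, hs⟩

theorem exists_epi_counit [IsAffine S] (a : X ⟶ S) (b : Y ⟶ S) [CompactSpace X] [IsSeparated a] [Flat a]
    [HasInjectiveResolutions (pullback a b).Modules] (K : (pullback a b).Modules) (hK : Coh.IsQCoh K)
    (hKf : FlatMod.IsFlatOver (pullback.fst a b) K)
    (hKa : ∀ M : X.Modules, Coh.IsQCoh M →
      IsZero ((Coh.Rpush (pullback.snd a b) 1).obj (CohB1.tensorMod ((Scheme.Modules.pullback (pullback.fst a b)).obj M) K))) :
    ∃ φ : (Scheme.Modules.pullback (pullback.snd a b)).obj ((Coh.push (pullback.snd a b)).obj K) ⟶ K, Epi φ := by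
  let p := pullback.fst a b
  let q := pullback.snd a b
  haveI : QuasiCompact a := inferInstance
  haveI : QuasiSeparated a := inferInstance
  haveI : QuasiCompact q := MorphismProperty.pullback_snd _ _ inferInstance
  haveI : QuasiSeparated q := MorphismProperty.pullback_snd _ _ inferInstance
  haveI : Flat q := MorphismProperty.pullback_snd _ _ inferInstance
  let r := pullback.fst (pullback.snd a a) p
  let s := pullback.snd (pullback.snd a a) p
  have hQ : IsPullback r s (pullback.snd a a) p := IsPullback.of_hasPullback _ _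
  have w₁ : (r ≫ pullback.fst a a) ≫ a = (s ≫ q) ≫ b := by
    rw [Category.assoc, pullback.condition, ← Category.assoc, hQ.w, Category.assoc, Category.assoc]
    exact congrArg (s ≫ ·) pullback.condition
  let π := pullback.lift (r ≫ pullback.fst a a) (s ≫ q) w₁
  have h₁ : π ≫ p = r ≫ pullback.fst a a := pullback.lift_fst _ _ _
  have h₂ : π ≫ q = s ≫ q := pullback.lift_snd _ _ _
  have h3 := hQ.flip.paste_vert (IsPullback.of_hasPullback a a).flip
  have hπ : IsPullback s π q q := by
    have o : IsPullback s (π ≫ p) (q ≫ b) a := by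
      rw [h₁, ← pullback.condition]; exact h3
    exact IsPullback.of_bot o h₂.symm (IsPullback.of_hasPullback a b).flip
  haveI : QuasiCompact π := MorphismProperty.of_isPullback hπ inferInstance
  haveI : QuasiSeparated π := MorphismProperty.of_isPullback hπ inferInstance
  let Δ := pullback.diagonal a
  haveI : IsClosedImmersion Δ := IsSeparated.isClosedImmersion_diagonal
  have w₂ : (p ≫ Δ) ≫ pullback.snd a a = 𝟙 _ ≫ p := by simp [Δ]
  let d := pullback.lift (p ≫ Δ) (𝟙 _) w₂
  have hd₁ : d ≫ r = p ≫ Δ := pullback.lift_fst _ _ _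
  have hd₂ : d ≫ s = 𝟙 _ := pullback.lift_snd _ _ _
  have hdπ : d ≫ π = 𝟙 _ := by
    refine pullback.hom_ext ?_ ?_
    · rw [Category.assoc, h₁, ← Category.assoc, hd₁, Category.assoc, Category.id_comp]
      simp [Δ, p]
    · rw [Category.assoc, h₂, ← Category.assoc, hd₂]
  have hd : IsPullback p d Δ r := by
    refine IsPullback.of_bot ?_ hd₁.symm hQ
    rw [hd₂, show Δ ≫ pullback.snd a a = 𝟙 X by simp [Δ]]
    exact IsPullback.of_vert_isIso ⟨by simp⟩
  haveI := hK
  let K' := (Scheme.Modules.pullback s).obj K
  haveI : Coh.IsQCoh K' := Groth.L16.AffineBC.isQCoh_pullback s K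
  have hK' : FlatMod.IsFlatOver r K' := Groth.L29.DC.RelBC.isFlatOver_pullback hQ.flip hKf
  let T := Groth.L17.FlatTensor.G r K'
  haveI : PreservesFiniteLimits T := Groth.L17.FlatTensor.preservesFiniteLimits r K' hK'
  haveI : Coh.IsQCoh (Coh.structureModule X) := isQCoh_one X
  haveI := isQCoh_one (pullback a a)
  haveI := Groth.L16.QcqsPush.isQCoh_push (Coh.structureModule X) Δ
  let v := ClSub.unitToPush Δ
  haveI : Epi v := epi_unit Δ
  have hv : Coh.IsQCoh (kernel v) := (Groth.L00.AlgQCoh.isQCoh_kernel_cokernel v inferInstance inferInstance).1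
  haveI : Epi (T.map v) := T.map_epi v
  haveI : HasInjectiveResolutions (pullback (pullback.snd a a) p).Modules :=
    haveI := Groth.L00.Tensor.grothendieckAbelian_modules (pullback (pullback.snd a a) p)
    inferInstance
  have hz : IsZero ((Coh.Rpush π 1).obj (kernel (T.map v))) := by
    refine IsZero.of_iso ?_ ((Coh.Rpush π 1).mapIso ((PreservesKernel.iso T v).symm ≪≫ tensorComm _ _))
    refine isZero_Rpush_tensor _ _ p q r s hQ π p q h₁ h₂ (fun U hU => ?_) (fun U hU => ?_) _ hv K hK 1 hKa
    · haveI : IsAffine U.toScheme := hU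
      haveI : IsAffineHom (U.ι ≫ a) := isAffineHom_of_isAffine _
      exact MorphismProperty.of_isPullback
        ((isPullback_morphismRestrict (pullback.fst a a) U).paste_vert (IsPullback.of_hasPullback a a)) inferInstance
    · haveI : IsAffine U.toScheme := hU
      haveI : IsAffineHom (U.ι ≫ a) := isAffineHom_of_isAffine _
      exact MorphismProperty.of_isPullback
        ((isPullback_morphismRestrict (pullback.fst a b) U).paste_vert (IsPullback.of_hasPullback a b)) inferInstance
  haveI : Epi ((Coh.push π).map (T.map v)) := by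
    obtain ⟨e⟩ := Groth.L17.nonempty_toAb_Rpush_iso π (kernel (T.map v)) 1
    exact Groth.L18.AffineCrit.epi_push_of_R1 π (T.map v)
      (((Groth.L17.toAbShF _).map_isZero hz).of_iso e.symm)
  haveI := Groth.L17.Kun.isIso_θc Δ r p d hd (G := K') (Coh.structureModule X)
  let eτ : (Coh.push π).obj (T.obj ((Scheme.Modules.pushforward Δ).obj (Coh.structureModule X))) ≅ K :=
    (Scheme.Modules.pushforward π).mapIso
        (asIso (Groth.L17.FlatPair.θc Δ r p d hd.w K' (Coh.structureModule X)) ≪≫
          (Scheme.Modules.pushforward d).mapIso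
            (tensorIso
                ((Scheme.Modules.pullbackComp d s).app K ≪≫ (Scheme.Modules.pullbackCongr hd₂).app K ≪≫
                  (Scheme.Modules.pullbackId _).app K)
                (Groth.L29.LocFree.pullbackUnitIso p) ≪≫
              tensorUnitRight K)) ≪≫
      (Scheme.Modules.pushforwardComp d π).app K ≪≫ (Scheme.Modules.pushforwardCongr hdπ).app K ≪≫
        (Scheme.Modules.pushforwardId _).app K
  let eσ : (Coh.push π).obj (T.obj (Coh.structureModule (pullback a a))) ≅ (Coh.push π).obj K' :=
    (Coh.push π).mapIso (tensorIso (Iso.refl K') (Groth.L29.LocFree.pullbackUnitIso r) ≪≫ tensorUnitRight K')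
  haveI := Groth.L17.DegZero.isIso_of_flat q q s π K hπ
  let eb : (Scheme.Modules.pullback q).obj ((Coh.push q).obj K) ≅ (Coh.push π).obj K' :=
    asIso (((Scheme.Modules.pullbackPushforwardAdjunction q).homEquiv _ _).symm
      (Groth.L17.DegZero.vMap q q s π hπ.w K))
  exact ⟨(eb ≪≫ eσ.symm).hom ≫ (Coh.push π).map (T.map v) ≫ eτ.hom, inferInstance⟩

end Groth.Lead.FunMor
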